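import Mathlib
import Cfsg.Agent.Lib.Helper5.SL2b

set_option autoImplicit false

namespace Cfsg.Agent.Lib.Helper4.SL2R

open Cfsg.Agent.Lib.Helper5 (tU sL)
open scoped commutatorElement

local notation "SL2" => Matrix.SpecialLinearGroup (Fin 2)

section gen

variable {F : Type*} [Field F]

theorem mem_of_ne_zero (K : Subgroup (SL2 F)) (hU : ∀ t, tU t ∈ K) (hL : ∀ t, sL t ∈ K) (M : SL2 F)
    (hc : (M : Matrix (Fin 2) (Fin 2) F) 1 0 ≠ 0) : M ∈ K := by
  have hdet : (M : Matrix (Fin 2) (Fin 2) F) 0 0 * (M : Matrix (Fin 2) (Fin 2) F) 1 1 -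
      (M : Matrix (Fin 2) (Fin 2) F) 0 1 * (M : Matrix (Fin 2) (Fin 2) F) 1 0 = 1 := by
    rw [← Matrix.det_fin_two]; exact M.2
  obtain ⟨a, ha⟩ : ∃ a, a = (M : Matrix (Fin 2) (Fin 2) F) 0 0 := ⟨_, rfl⟩
  obtain ⟨b, hb⟩ : ∃ a, a = (M : Matrix (Fin 2) (Fin 2) F) 0 1 := ⟨_, rfl⟩
  obtain ⟨c, hc'⟩ : ∃ a, a = (M : Matrix (Fin 2) (Fin 2) F) 1 0 := ⟨_, rfl⟩
  obtain ⟨d, hd⟩ : ∃ a, a = (M : Matrix (Fin 2) (Fin 2) F) 1 1 := ⟨_, rfl⟩
  rw [← ha, ← hb, ← hc', ← hd] at hdet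
  rw [← hc'] at hc
  have hM : M = tU ((a - 1) / c) * sL c * tU ((d - 1) / c) := by
    apply Subtype.ext
    rw [Matrix.SpecialLinearGroup.coe_mul, Matrix.SpecialLinearGroup.coe_mul,
      Cfsg.Agent.Lib.Helper5.coe_tU, Cfsg.Agent.Lib.Helper5.coe_tU, Cfsg.Agent.Lib.Helper5.coe_sL,
      Matrix.mul_fin_two, Matrix.mul_fin_two]
    apply Cfsg.Agent.Lib.Helper5.ext2
    · rw [← ha]
      simp
      field_simp
      ring
    · rw [← hb]
      simp
      field_simp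
      linear_combination (-1 : F) * hdet
    · rw [← hc']
      simp
    · rw [← hd]
      simp
      field_simp
      ring
  rw [hM]
  exact K.mul_mem (K.mul_mem (hU _) (hL _)) (hU _)

theorem eq_top_of_mem (K : Subgroup (SL2 F)) (hU : ∀ t, tU t ∈ K) (hL : ∀ t, sL t ∈ K) : K = ⊤ := by
  rw [eq_top_iff]
  intro M _
  by_cases hc : (M : Matrix (Fin 2) (Fin 2) F) 1 0 = 0
  · have hdet : (M : Matrix (Fin 2) (Fin 2) F) 0 0 * (M : Matrix (Fin 2) (Fin 2) F) 1 1 -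
        (M : Matrix (Fin 2) (Fin 2) F) 0 1 * (M : Matrix (Fin 2) (Fin 2) F) 1 0 = 1 := by
      rw [← Matrix.det_fin_two]; exact M.2
    have hd : (M : Matrix (Fin 2) (Fin 2) F) 1 1 ≠ 0 := by
      intro h
      rw [h, hc] at hdet
      simp at hdet
    have h1 : M * sL 1 ∈ K := by
      apply mem_of_ne_zero K hU hL
      rw [Matrix.SpecialLinearGroup.coe_mul, Cfsg.Agent.Lib.Helper5.coe_sL, Matrix.mul_apply,
        Fin.sum_univ_two]
      simpa [hc] using hd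
    have h2 := K.mul_mem h1 (K.inv_mem (hL 1))
    simpa using h2
  · exact mem_of_ne_zero K hU hL M hc

end gen

variable {G : Type*} [Group G] {p : ℕ} [Fact p.Prime]

/-- coordinates on a group of order `p²`. -/
def phi (w1 w2 : G) (u : ZMod p × ZMod p) : G := w1 ^ u.1.val * w2 ^ u.2.val

structure Coord (p : ℕ) (W : Subgroup G) (w1 w2 : G) : Prop where
  h1 : w1 ∈ W
  h2 : w2 ∈ W
  comm : w1 * w2 = w2 * w1
  p1 : w1 ^ p = 1
  p2 : w2 ^ p = 1
  ne1 : w1 ≠ 1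
  ne2 : w2 ≠ 1
  ind : Subgroup.zpowers w1 ⊓ Subgroup.zpowers w2 = ⊥
  card : Nat.card W = p ^ 2

theorem pow_val_add {w : G} (hw : w ^ p = 1) (i j : ZMod p) :
    w ^ (i + j).val = w ^ i.val * w ^ j.val := by
  rw [ZMod.val_add, ← pow_eq_pow_mod _ hw, pow_add]

variable {W : Subgroup G} {w1 w2 : G}

theorem phi_add (C : Coord p W w1 w2) (u v : ZMod p × ZMod p) :
    phi w1 w2 (u + v) = phi w1 w2 u * phi w1 w2 v := by
  unfold phi
  rw [Prod.fst_add, Prod.snd_add, pow_val_add C.p1, pow_val_add C.p2]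
  have hc : w1 ^ v.1.val * w2 ^ u.2.val = w2 ^ u.2.val * w1 ^ v.1.val :=
    (Commute.pow_pow (show Commute w1 w2 from C.comm) _ _)
  calc w1 ^ u.1.val * w1 ^ v.1.val * (w2 ^ u.2.val * w2 ^ v.2.val)
      = w1 ^ u.1.val * (w1 ^ v.1.val * w2 ^ u.2.val) * w2 ^ v.2.val := by group
    _ = w1 ^ u.1.val * (w2 ^ u.2.val * w1 ^ v.1.val) * w2 ^ v.2.val := by rw [hc]
    _ = _ := by group

theorem phi_zero : phi w1 w2 (0 : ZMod p × ZMod p) = 1 := by
  simp [phi]

theorem phi_nsmul (C : Coord p W w1 w2) (n : ℕ) (u : ZMod p × ZMod p) :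
    phi w1 w2 (n • u) = phi w1 w2 u ^ n := by
  induction n with
  | zero => simp [phi_zero]
  | succ n ih => rw [succ_nsmul, phi_add C, ih, pow_succ]

theorem phi_smul (C : Coord p W w1 w2) (i : ZMod p) (u : ZMod p × ZMod p) :
    phi w1 w2 (i • u) = phi w1 w2 u ^ i.val := by
  rw [← phi_nsmul C, ← Nat.cast_smul_eq_nsmul (ZMod p), ZMod.natCast_zmod_val]

theorem val_eq_zero_of_pow {w : G} (hw : w ^ p = 1) (hne : w ≠ 1) (i : ZMod p) (h : w ^ i.val = 1) :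
    i = 0 := by
  have ho : orderOf w = p := orderOf_eq_prime hw hne
  have h1 : p ∣ i.val := by
    have := orderOf_dvd_of_pow_eq_one h
    rwa [ho] at this
  have h2 : i.val < p := ZMod.val_lt i
  have h3 : i.val = 0 := Nat.eq_zero_of_dvd_of_lt h1 h2
  exact (ZMod.val_eq_zero i).mp h3

theorem phi_eq_one (C : Coord p W w1 w2) (u : ZMod p × ZMod p) (h : phi w1 w2 u = 1) : u = 0 := by
  unfold phi at h
  have h1 : w1 ^ u.1.val = (w2 ^ u.2.val)⁻¹ := eq_inv_of_mul_eq_one_left h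
  have h2 : w1 ^ u.1.val ∈ Subgroup.zpowers w1 ⊓ Subgroup.zpowers w2 := by
    refine ⟨Subgroup.pow_mem _ (Subgroup.mem_zpowers w1) _, ?_⟩
    rw [h1]
    exact Subgroup.inv_mem _ (Subgroup.pow_mem _ (Subgroup.mem_zpowers w2) _)
  rw [C.ind] at h2
  have h3 : w1 ^ u.1.val = 1 := Subgroup.mem_bot.mp h2
  rw [h3, one_mul] at h
  exact Prod.ext (val_eq_zero_of_pow C.p1 C.ne1 _ h3) (val_eq_zero_of_pow C.p2 C.ne2 _ h)

theorem phi_inj (C : Coord p W w1 w2) : Function.Injective (phi (p := p) w1 w2) := by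
  intro u v h
  have h1 : phi w1 w2 u = phi w1 w2 v * phi w1 w2 (u - v) := by
    rw [← phi_add C]; congr 1; abel
  rw [h] at h1
  have h2 : phi w1 w2 (u - v) = 1 := by
    have := h1.symm
    rwa [mul_eq_left] at this
  exact sub_eq_zero.mp (phi_eq_one C _ h2)

theorem phi_mem (C : Coord p W w1 w2) (u : ZMod p × ZMod p) : phi w1 w2 u ∈ W :=
  W.mul_mem (W.pow_mem C.h1 _) (W.pow_mem C.h2 _)

theorem exists_phi [Finite G] (C : Coord p W w1 w2) {w : G} (hw : w ∈ W) :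
    ∃ u : ZMod p × ZMod p, phi w1 w2 u = w := by
  have hinj : Function.Injective (fun u : ZMod p × ZMod p => (⟨phi w1 w2 u, phi_mem C u⟩ : ↥W)) := by
    intro u v h
    exact phi_inj C (congrArg Subtype.val h)
  have hb := hinj.bijective_of_nat_card_le (by
    rw [C.card, Nat.card_prod, Nat.card_zmod, sq])
  obtain ⟨u, hu⟩ := hb.2 ⟨w, hw⟩
  exact ⟨u, congrArg Subtype.val hu⟩

/-- the coordinate function -/
noncomputable def co (w1 w2 : G) (x : G) : ZMod p × ZMod p := Function.invFun (phi w1 w2) x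

theorem co_phi (C : Coord p W w1 w2) (u : ZMod p × ZMod p) : co w1 w2 (phi w1 w2 u) = u :=
  Function.leftInverse_invFun (phi_inj C) u

theorem phi_co [Finite G] (C : Coord p W w1 w2) {w : G} (hw : w ∈ W) :
    phi w1 w2 (co (p := p) w1 w2 w) = w :=
  Function.invFun_eq (exists_phi C hw)

/-- the matrix of conjugation by `g`. -/
noncomputable def mat (p : ℕ) [Fact p.Prime] (w1 w2 : G) (g : G) : Matrix (Fin 2) (Fin 2) (ZMod p) :=
  !![(co w1 w2 (g * w1 * g⁻¹)).1, (co w1 w2 (g * w2 * g⁻¹)).1;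
     (co w1 w2 (g * w1 * g⁻¹)).2, (co w1 w2 (g * w2 * g⁻¹)).2]

theorem conj_phi [Finite G] (C : Coord p W w1 w2) {g : G} (hg : g ∈ Subgroup.normalizer (W : Set G))
    (u : ZMod p × ZMod p) :
    g * phi w1 w2 u * g⁻¹ =
      phi w1 w2 (u.1 • co (p := p) w1 w2 (g * w1 * g⁻¹) + u.2 • co (p := p) w1 w2 (g * w2 * g⁻¹)) := by
  have m1 : g * w1 * g⁻¹ ∈ W := (Subgroup.mem_normalizer_iff.mp hg _).mp C.h1
  have m2 : g * w2 * g⁻¹ ∈ W := (Subgroup.mem_normalizer_iff.mp hg _).mp C.h2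
  rw [phi_add C, phi_smul C, phi_smul C, phi_co C m1, phi_co C m2, conj_pow, conj_pow]
  unfold phi
  group

theorem phi_one_zero : phi w1 w2 ((1, 0) : ZMod p × ZMod p) = w1 := by
  have : (1 : ZMod p).val = 1 := ZMod.val_one'' (Fact.out : p.Prime).ne_one
  simp [phi, this]

theorem phi_zero_one : phi w1 w2 ((0, 1) : ZMod p × ZMod p) = w2 := by
  have : (1 : ZMod p).val = 1 := ZMod.val_one'' (Fact.out : p.Prime).ne_one
  simp [phi, this]

theorem mat_one (C : Coord p W w1 w2) : mat p w1 w2 1 = 1 := by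
  have e1 : co (p := p) w1 w2 w1 = (1, 0) := by
    have := co_phi C (1, 0)
    rwa [phi_one_zero] at this
  have e2 : co (p := p) w1 w2 w2 = (0, 1) := by
    have := co_phi C (0, 1)
    rwa [phi_zero_one] at this
  unfold mat
  simp only [one_mul, inv_one, mul_one, e1, e2]
  exact Matrix.one_fin_two.symm

theorem mat_mul [Finite G] (C : Coord p W w1 w2) {g h : G}
    (hg : g ∈ Subgroup.normalizer (W : Set G)) (hh : h ∈ Subgroup.normalizer (W : Set G)) :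
    mat p w1 w2 (g * h) = mat p w1 w2 g * mat p w1 w2 h := by
  have m1 : h * w1 * h⁻¹ ∈ W := (Subgroup.mem_normalizer_iff.mp hh _).mp C.h1
  have m2 : h * w2 * h⁻¹ ∈ W := (Subgroup.mem_normalizer_iff.mp hh _).mp C.h2
  have e1 : co (p := p) w1 w2 (g * h * w1 * (g * h)⁻¹) =
      (co (p := p) w1 w2 (h * w1 * h⁻¹)).1 • co w1 w2 (g * w1 * g⁻¹) +
        (co (p := p) w1 w2 (h * w1 * h⁻¹)).2 • co w1 w2 (g * w2 * g⁻¹) := by
    rw [← co_phi C (_ + _), ← conj_phi C hg, phi_co C m1]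
    congr 1; group
  have e2 : co (p := p) w1 w2 (g * h * w2 * (g * h)⁻¹) =
      (co (p := p) w1 w2 (h * w2 * h⁻¹)).1 • co w1 w2 (g * w1 * g⁻¹) +
        (co (p := p) w1 w2 (h * w2 * h⁻¹)).2 • co w1 w2 (g * w2 * g⁻¹) := by
    rw [← co_phi C (_ + _), ← conj_phi C hg, phi_co C m2]
    congr 1; group
  unfold mat
  rw [e1, e2, Matrix.mul_fin_two]
  simp only [Prod.fst_add, Prod.snd_add, Prod.smul_fst, Prod.smul_snd, smul_eq_mul]
  apply Cfsg.Agent.Lib.Helper5.ext2 <;> simp <;> ring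

theorem conj_phi' [Finite G] (C : Coord p W w1 w2) {g : G} (hg : g ∈ Subgroup.normalizer (W : Set G))
    (u : ZMod p × ZMod p) :
    g * phi w1 w2 u * g⁻¹ = phi w1 w2 (mat p w1 w2 g 0 0 * u.1 + mat p w1 w2 g 0 1 * u.2,
      mat p w1 w2 g 1 0 * u.1 + mat p w1 w2 g 1 1 * u.2) := by
  rw [conj_phi C hg]
  congr 1
  ext <;> simp [mat] <;> ring

theorem mat_eq_of (C : Coord p W w1 w2) {g : G} {u v : ZMod p × ZMod p}
    (h1 : g * w1 * g⁻¹ = phi w1 w2 u) (h2 : g * w2 * g⁻¹ = phi w1 w2 v) :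
    mat p w1 w2 g = !![u.1, v.1; u.2, v.2] := by
  unfold mat
  rw [h1, h2, co_phi C, co_phi C]

theorem main [Finite G] (C : Coord p W w1 w2) {a b : G}
    (ha : a ∈ Subgroup.normalizer (W : Set G)) (hb : b ∈ Subgroup.normalizer (W : Set G))
    {α β : ZMod p} (hα : α ≠ 0) (hβ : β ≠ 0)
    (a1 : a * w1 * a⁻¹ = w1) (a2 : a * w2 * a⁻¹ = phi w1 w2 (α, 1))
    (b1 : b * w1 * b⁻¹ = phi w1 w2 (1, β)) (b2 : b * w2 * b⁻¹ = w2)
    (hf : Subgroup.closure ({a, b} : Set G) ⊓ Subgroup.centralizer (W : Set G) = ⊥) :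
    ∃ e : ↥(Subgroup.closure ({a, b} : Set G)) ≃* SL2 (ZMod p),
      ∀ g, ((e g : SL2 (ZMod p)) : Matrix (Fin 2) (Fin 2) (ZMod p)) = mat p w1 w2 (g : G) := by
  have hE : Subgroup.closure ({a, b} : Set G) ≤ Subgroup.normalizer (W : Set G) := by
    rw [Subgroup.closure_le]
    rintro x (rfl | rfl)
    exacts [ha, hb]
  have ma : mat p w1 w2 a = !![1, α; 0, 1] :=
    mat_eq_of C (u := (1, 0)) (v := (α, 1)) (by rw [phi_one_zero]; exact a1) a2
  have mb : mat p w1 w2 b = !![1, 0; β, 1] :=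
    mat_eq_of C (u := (1, β)) (v := (0, 1)) b1 (by rw [phi_zero_one]; exact b2)
  have hdet : ∀ g ∈ Subgroup.closure ({a, b} : Set G), (mat p w1 w2 g).det = 1 := by
    intro g hg
    induction hg using Subgroup.closure_induction with
    | mem x hx =>
      rcases hx with rfl | rfl
      · rw [ma]; simp [Matrix.det_fin_two]
      · rw [mb]; simp [Matrix.det_fin_two]
    | one => rw [mat_one C]; simp
    | mul x y hx hy ihx ihy => rw [mat_mul C (hE hx) (hE hy), Matrix.det_mul, ihx, ihy, one_mul]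
    | inv x hx ih =>
      have h1 := mat_mul C (hE (inv_mem hx)) (hE hx)
      rw [inv_mul_cancel, mat_one C] at h1
      have h2 := congrArg Matrix.det h1
      rw [Matrix.det_one, Matrix.det_mul, ih, mul_one] at h2
      exact h2.symm
  let e0 : ↥(Subgroup.closure ({a, b} : Set G)) →* SL2 (ZMod p) :=
    { toFun := fun g => ⟨mat p w1 w2 g, hdet g g.2⟩
      map_one' := Subtype.ext (mat_one C)
      map_mul' := fun g h => Subtype.ext (mat_mul C (hE g.2) (hE h.2)) }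
  have hinj : Function.Injective e0 := by
    rw [injective_iff_map_eq_one]
    intro g hg
    have hm : mat p w1 w2 (g : G) = 1 := congrArg Subtype.val hg
    have hc : (g : G) ∈ Subgroup.centralizer (W : Set G) := by
      rw [Subgroup.mem_centralizer_iff]
      intro w hw
      obtain ⟨u, rfl⟩ := exists_phi C hw
      have h1 := conj_phi' C (hE g.2) u
      rw [hm] at h1
      simp only [Matrix.one_apply_eq, one_mul, ne_eq, zero_ne_one, not_false_eq_true,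
        Matrix.one_apply_ne, zero_mul, add_zero, one_ne_zero, zero_add, Prod.mk.eta] at h1
      exact (mul_inv_eq_iff_eq_mul.mp h1).symm
    have h2 : (g : G) ∈ (⊥ : Subgroup G) := hf ▸ Subgroup.mem_inf.mpr ⟨g.2, hc⟩
    exact Subtype.ext (Subgroup.mem_bot.mp h2)
  have hsurj : Function.Surjective e0 := by
    rw [← MonoidHom.range_eq_top]
    apply eq_top_of_mem
    · intro t
      refine ⟨⟨a, Subgroup.subset_closure (by simp)⟩ ^ (t / α).val, ?_⟩
      rw [map_pow]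
      have h1 : e0 ⟨a, Subgroup.subset_closure (by simp)⟩ = tU α := Subtype.ext ma
      rw [h1, Cfsg.Agent.Lib.Helper5.tU_pow, ZMod.natCast_zmod_val, div_mul_cancel₀ _ hα]
    · intro t
      refine ⟨⟨b, Subgroup.subset_closure (by simp)⟩ ^ (t / β).val, ?_⟩
      rw [map_pow]
      have h1 : e0 ⟨b, Subgroup.subset_closure (by simp)⟩ = sL β := Subtype.ext mb
      rw [h1, Cfsg.Agent.Lib.Helper5.sL_pow, ZMod.natCast_zmod_val, div_mul_cancel₀ _ hβ]
  exact ⟨MulEquiv.ofBijective e0 ⟨hinj, hsurj⟩, fun g => rfl⟩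

/-- for `p ≥ 5` a commutator in `SL₂(p)` has order `p`. -/
theorem exists_comm (h2 : p ≠ 2) (h3 : p ≠ 3) :
    ∃ g u : SL2 (ZMod p), ⁅g, u⁆ ≠ 1 ∧ ⁅g, u⁆ ^ p = 1 := by
  have hp := (Fact.out : p.Prime)
  have t2 : (2 : ZMod p) ≠ 0 := by
    intro h
    have h' : ((2 : ℕ) : ZMod p) = 0 := by exact_mod_cast h
    rw [ZMod.natCast_eq_zero_iff] at h'
    exact h2 ((Nat.prime_dvd_prime_iff_eq hp Nat.prime_two).mp h')
  have t3 : (3 : ZMod p) ≠ 0 := by
    intro h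
    have h' : ((3 : ℕ) : ZMod p) = 0 := by exact_mod_cast h
    rw [ZMod.natCast_eq_zero_iff] at h'
    exact h3 ((Nat.prime_dvd_prime_iff_eq hp Nat.prime_three).mp h')
  let g : SL2 (ZMod p) := ⟨!![2, 0; 0, 2⁻¹], by simp [Matrix.det_fin_two, t2]⟩
  have hg : g * tU 1 = tU 4 * g := by
    apply Subtype.ext
    rw [Matrix.SpecialLinearGroup.coe_mul, Matrix.SpecialLinearGroup.coe_mul,
      Cfsg.Agent.Lib.Helper5.coe_tU, Cfsg.Agent.Lib.Helper5.coe_tU]
    show !![2, 0; 0, 2⁻¹] * !![1, 1; 0, 1] = !![1, 4; 0, 1] * !![2, 0; 0, (2 : ZMod p)⁻¹]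
    rw [Matrix.mul_fin_two, Matrix.mul_fin_two]
    apply Cfsg.Agent.Lib.Helper5.ext2 <;> simp
    field_simp
    norm_num
  have hc : ⁅g, tU (1 : ZMod p)⁆ = tU 3 := by
    rw [commutatorElement_def, hg, mul_assoc (tU 4), mul_inv_cancel, mul_one]
    have h1 : tU (3 : ZMod p) * tU 1 = tU 4 := by
      rw [Cfsg.Agent.Lib.Helper5.tU_mul]; norm_num
    rw [← h1, mul_inv_cancel_right]
  refine ⟨g, tU 1, ?_, ?_⟩
  · rw [hc]
    intro h
    have h1 := congrArg (fun M : SL2 (ZMod p) => (M : Matrix (Fin 2) (Fin 2) (ZMod p)) 0 1) h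
    simp [Cfsg.Agent.Lib.Helper5.coe_tU] at h1
    exact t3 h1
  · rw [hc, Cfsg.Agent.Lib.Helper5.tU_pow]
    simp [Cfsg.Agent.Lib.Helper5.tU_zero]

/-- transitivity of `SL₂` on nonzero vectors. -/
theorem exists_first_col {F : Type*} [Field F] (u : F × F) (hu : u ≠ 0) :
    ∃ M : SL2 F, (M : Matrix (Fin 2) (Fin 2) F) 0 0 = u.1 ∧ (M : Matrix (Fin 2) (Fin 2) F) 1 0 = u.2 := by
  by_cases h1 : u.1 = 0
  · have h2 : u.2 ≠ 0 := by
      intro h2
      exact hu (Prod.ext h1 h2)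
    refine ⟨⟨!![0, -u.2⁻¹; u.2, 0], by simp [Matrix.det_fin_two, h2]⟩, ?_, ?_⟩
    · simp [h1]
    · simp
  · refine ⟨⟨!![u.1, 0; u.2, u.1⁻¹], by simp [Matrix.det_fin_two, h1]⟩, ?_, ?_⟩ <;> simp

end Cfsg.Agent.Lib.Helper4.SL2R
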